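import Groth.Prelude.Def_W4c2conddiscmodels
import Mathlib.Algebra.BigOperators.Group.Finset.Basic
import Mathlib.Algebra.Field.Rat
import Mathlib.Tactic

set_option autoImplicit false
open Finset

namespace K836.HJBasic

/-- numerator of the Hirzebruch–Jung continued fraction. -/
def num : List ℤ → ℤ × ℤ
  | [] => (1, 0)
  | b :: L => (b * (num L).1 - (num L).2, (num L).1)

lemma num_pos (L : List ℤ) (h : ∀ b ∈ L, 2 ≤ b) : 0 ≤ (num L).2 ∧ (num L).2 < (num L).1 := by
  induction L with
  | nil => simp [num]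
  | cons b L ih =>
    have h1 := ih (fun c hc => h c (List.mem_cons_of_mem _ hc))
    have h2 : 2 ≤ b := h b (List.mem_cons_self)
    refine ⟨?_, ?_⟩
    · show 0 ≤ (num L).1
      linarith [h1.1, h1.2]
    · show (num L).1 < b * (num L).1 - (num L).2
      nlinarith [h1.1, h1.2]

lemma hjVal_eq (L : List ℤ) (h : ∀ b ∈ L, 2 ≤ b) :
    HJFrac.hjVal L = ((num L).1 : ℚ) / ((num L).2 : ℚ) := by
  induction L with
  | nil => simp [num, HJFrac.hjVal]
  | cons b L ih =>
    have h1 := num_pos L (fun c hc => h c (List.mem_cons_of_mem _ hc))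
    have h3 : ((num L).1 : ℚ) ≠ 0 := by
      have : 0 < (num L).1 := lt_of_le_of_lt h1.1 h1.2
      exact_mod_cast this.ne'
    rw [HJFrac.hjVal, ih (fun c hc => h c (List.mem_cons_of_mem _ hc))]
    simp only [num, inv_div]
    push_cast
    field_simp

lemma num_coprime (L : List ℤ) : IsCoprime (num L).1 (num L).2 := by
  induction L with
  | nil => simp [num, isCoprime_one_left]
  | cons b L ih =>
    obtain ⟨u, v, huv⟩ := ih
    refine ⟨-v, u + v * b, ?_⟩
    simp only [num]
    linear_combination huv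

lemma wronskian (l : ℕ) (b μ : ℕ → ℤ)
    (hsys : ∀ i, 1 ≤ i → i ≤ l → b i * μ i = μ (i - 1) + μ (i + 1)) :
    (num ((List.range l).map fun i => b (i + 1))).1 * μ 1 -
      (num ((List.range l).map fun i => b (i + 1))).2 * μ 0 = μ (l + 1) := by
  induction l generalizing b μ with
  | zero => simp [num]
  | succ l ih =>
    have h1 := ih (fun i => b (i + 1)) (fun i => μ (i + 1)) (by
      intro i h1 h2
      have := hsys (i + 1) (by omega) (by omega)
      simpa [Nat.sub_add_cancel h1] using this)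
    rw [List.range_succ_eq_map, List.map_cons, List.map_map]
    have e : ((fun i => b (i + 1)) ∘ Nat.succ) = (fun i => b (i + 1 + 1)) := rfl
    rw [e]
    simp only [num]
    have h0 := hsys 1 le_rfl (by omega)
    simp only [Nat.sub_self, zero_add, Nat.reduceAdd] at h0 h1 ⊢
    linear_combination h1 + (num (List.map (fun i => b (i + 1 + 1)) (List.range l))).1 * h0

lemma sum_eq (l : ℕ) (b μ : ℕ → ℤ) (hb : ∀ i, 1 ≤ i → i ≤ l → 2 ≤ b i)
    (hμpos : ∀ i, i ≤ l + 1 → 0 < μ i)
    (hsys : ∀ i, 1 ≤ i → i ≤ l → b i * μ i = μ (i - 1) + μ (i + 1)) :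
    (((num ((List.range l).map fun i => b (i + 1))).1 : ℤ) : ℚ) / (μ 0 : ℚ) =
      (μ (l + 1) : ℚ) * ∑ i ∈ Finset.range (l + 1), 1 / ((μ i : ℚ) * (μ (i + 1) : ℚ)) := by
  induction l generalizing b μ with
  | zero =>
    have h0 : (μ 0 : ℚ) ≠ 0 := by exact_mod_cast (hμpos 0 (by omega)).ne'
    have h1 : (μ 1 : ℚ) ≠ 0 := by exact_mod_cast (hμpos 1 (by omega)).ne'
    simp [num]
    field_simp
  | succ l ih =>
    have h1 := ih (fun i => b (i + 1)) (fun i => μ (i + 1))
      (fun i h1 h2 => hb (i + 1) (by omega) (by omega))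
      (fun i h1 => hμpos (i + 1) (by omega)) (by
      intro i h1 h2
      have := hsys (i + 1) (by omega) (by omega)
      simpa [Nat.sub_add_cancel h1] using this)
    have hw := wronskian (l + 1) b μ hsys
    rw [List.range_succ_eq_map, List.map_cons, List.map_map] at hw ⊢
    have e : ((fun i => b (i + 1)) ∘ Nat.succ) = (fun i => b (i + 1 + 1)) := rfl
    rw [e] at hw ⊢
    rw [Finset.sum_range_succ']
    simp only [num] at hw ⊢
    simp only [zero_add] at hw h1 ⊢
    have hw' := congrArg (fun z : ℤ => (z : ℚ)) hw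
    push_cast at hw' ⊢
    set N := ((num (List.map (fun i => b (i + 1 + 1)) (List.range l))).1 : ℚ)
    set D := ((num (List.map (fun i => b (i + 1 + 1)) (List.range l))).2 : ℚ)
    rw [mul_add, ← h1]
    have h0 : (μ 0 : ℚ) ≠ 0 := by exact_mod_cast (hμpos 0 (by omega)).ne'
    have h1' : (μ 1 : ℚ) ≠ 0 := by exact_mod_cast (hμpos 1 (by omega)).ne'
    field_simp
    linear_combination hw'

lemma num_eq (l : ℕ) (hl : 1 ≤ l) (b : ℕ → ℤ)
    (hb : ∀ i, 1 ≤ i → i ≤ l → 2 ≤ b i)
    (n r : ℕ) (hr : 0 < r) (hcop : Nat.Coprime r n)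
    (hhj : (n : ℚ) / r = HJFrac.hjVal ((List.range l).map fun i => b (i + 1))) :
    (num ((List.range l).map fun i => b (i + 1))).1 = n ∧
      (num ((List.range l).map fun i => b (i + 1))).2 = r := by
  have hL : ∀ c ∈ ((List.range l).map fun i => b (i + 1)), 2 ≤ c := by
    intro c hc
    simp only [List.mem_map, List.mem_range] at hc
    obtain ⟨i, hi, rfl⟩ := hc
    exact hb _ (by omega) (by omega)
  rw [hjVal_eq _ hL] at hhj
  set p := (num ((List.range l).map fun i => b (i + 1))).1 with hp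
  set q := (num ((List.range l).map fun i => b (i + 1))).2 with hq
  have hcpq : IsCoprime p q := num_coprime _
  have hpos := num_pos _ hL
  have hqpos : 0 < q := by
    obtain ⟨m, rfl⟩ : ∃ m, l = m + 1 := ⟨l - 1, by omega⟩
    rw [hq, List.range_succ_eq_map, List.map_cons, List.map_map]
    simp only [num]
    have e : ((fun i => b (i + 1)) ∘ Nat.succ) = (fun i => b (i + 1 + 1)) := rfl
    rw [e]
    have hL' : ∀ c ∈ ((List.range m).map fun i => b (i + 1 + 1)), 2 ≤ c := by
      intro c hc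
      simp only [List.mem_map, List.mem_range] at hc
      obtain ⟨i, hi, rfl⟩ := hc
      exact hb _ (by omega) (by omega)
    have := num_pos _ hL'
    linarith [this.1, this.2]
  have hppos : 0 < p := lt_trans hqpos hpos.2
  have hr' : (r : ℚ) ≠ 0 := by exact_mod_cast hr.ne'
  have hq' : (q : ℚ) ≠ 0 := by exact_mod_cast hqpos.ne'
  rw [div_eq_div_iff hr' hq'] at hhj
  have hh : (n : ℤ) * q = p * r := by exact_mod_cast hhj
  have hcop' : IsCoprime (r : ℤ) (n : ℤ) := Nat.isCoprime_iff_coprime.mpr hcop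
  have d1 : (n : ℤ) ∣ p := hcop'.symm.dvd_of_dvd_mul_right (Dvd.intro _ hh)
  have d2 : p ∣ (n : ℤ) := hcpq.dvd_of_dvd_mul_right (Dvd.intro _ hh.symm)
  have e1 : p = (n : ℤ) := Int.dvd_antisymm hppos.le (by positivity) d2 d1
  refine ⟨e1, ?_⟩
  rw [e1] at hh
  have hn : (n : ℤ) ≠ 0 := by rw [← e1]; exact hppos.ne'
  exact mul_left_cancel₀ hn hh

end K836.HJBasic
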